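import Cfsg.Agent.H424.DegTools
import Cfsg.Agent.H847.Irr
import Cfsg.Agent.Prune
set_option linter.all false
prune_inst 0x7f00000000000000000000000000000000000000000000000000000000000000000000000000000000000000000000000000000000000000000000000000000000000000000000000000000000000000003fdffeefffffffffffffffffffffbeffbdefffffff
open scoped Cfsg.Agent.FastGrp

/-!
# Character degrees from representations (helper859, for S4898)
-/

set_option autoImplicit false

namespace Cfsg.Agent.H859.Five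

open Cfsg Module Cfsg.Agent.H847.Irr

universe u v

theorem mem_degs_of_rep {K : Type u} [Group K] {W : Type v} [AddCommGroup W] [Module ℂ W] [FiniteDimensional ℂ W]
    (R : K →* (W →ₗ[ℂ] W)) (hne : ∃ x : W, x ≠ 0) (h : ∀ U, Inv R U → U = ⊥ ∨ U = ⊤) :
    finrank ℂ W ∈ charDegrees K := by
  have h1 := irr_of R hne h
  refine H424.DegTools.mem_charDegrees.2 ⟨_, Cfsg.Agent.Characters.Core.isIrrCharacter_of_rep _ h1, ?_⟩
  exact Representation.char_one _

/-- an irreducible representation of degree `≠ 1` is not trivial -/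
theorem exists_ne_one {K : Type u} [Group K] {n : ℕ} (ρ : Representation ℂ K (Fin n → ℂ)) (h : ρ.IsIrreducible)
    (hn : n ≠ 1) : ∃ g, ρ g ≠ 1 := by
  by_contra hcon
  push Not at hcon
  have hnt : Nontrivial (Fin n → ℂ) := by
    by_contra hc
    rw [not_nontrivial_iff_subsingleton] at hc
    obtain ⟨a, b, hab⟩ := h.toNontrivial
    refine hab (Subrepresentation.toSubmodule_injective ?_)
    ext x
    have : x = 0 := Subsingleton.elim _ _
    subst this
    simp
  obtain ⟨x, hx⟩ := exists_ne (0 : Fin n → ℂ)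
  let S : Subrepresentation ρ := ⟨Submodule.span ℂ {x}, fun g v hv => by rw [hcon g]; exact hv⟩
  rcases h.eq_bot_or_eq_top S with h1 | h1
  · apply hx
    have h2 : x ∈ S.toSubmodule := Submodule.mem_span_singleton_self x
    rw [h1] at h2
    exact (Submodule.mem_bot ℂ).1 h2
  · have h2 : Submodule.span ℂ {x} = (⊤ : Submodule ℂ (Fin n → ℂ)) := congrArg Subrepresentation.toSubmodule h1
    have h3 := finrank_span_singleton (K := ℂ) hx
    rw [h2, finrank_top, finrank_fin_fun] at h3
    exact hn h3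

/-- a lower bound for the degrees of the nontrivial representations -/
def Bound (K : Type u) [Group K] (N : ℕ) : Prop :=
  ∀ (V : Type) [AddCommGroup V] [Module ℂ V] [FiniteDimensional ℂ V] (ρ : K →* (V →ₗ[ℂ] V)), (∃ g, ρ g ≠ 1) →
    N ≤ finrank ℂ V

theorem Bound.le {K : Type u} [Group K] {N : ℕ} (hb : Bound K N) {d : ℕ}
    (hd : d ∈ charDegrees K) (hd1 : d ≠ 1) : N ≤ d := by
  obtain ⟨χ, ⟨n, ρ, hρ, rfl⟩, h1⟩ := H424.DegTools.mem_charDegrees.1 hd
  have h2 : n = d := by
    rw [Representation.char_one, finrank_fin_fun] at h1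
    exact_mod_cast h1
  subst h2
  have h3 := hb (Fin n → ℂ) ρ (exists_ne_one ρ hρ hd1)
  rwa [finrank_fin_fun] at h3

/-- a representation of minimal degree is irreducible -/
theorem Bound.mem {K : Type u} [Group K] [Finite K] {N : ℕ} (hb : Bound K N)
    (R : K →* ((Fin N → ℂ) →ₗ[ℂ] (Fin N → ℂ))) (hR : ∃ g, R g ≠ 1) : N ∈ charDegrees K := by
  obtain ⟨U, hU, hU1, hU2⟩ := exists_irr R hR
  have hne : ∃ x : U, x ≠ 0 := by
    by_contra hc
    push Not at hc
    obtain ⟨g, hg⟩ := hU1
    apply hg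
    ext x
    rw [hc x, map_zero, map_zero]
  have h1 := mem_degs_of_rep (res R hU) hne hU2
  have h2 := hb U (res R hU) hU1
  have h3 : finrank ℂ U ≤ N := (Submodule.finrank_le U).trans (by rw [finrank_fin_fun])
  rwa [le_antisymm h3 h2] at h1

/-- complexification of a real representation on a coordinate space -/
noncomputable def cplx {K : Type u} [Group K] {N : ℕ} (R : K →* ((Fin N → ℝ) →ₗ[ℝ] (Fin N → ℝ))) :
    K →* ((Fin N → ℂ) →ₗ[ℂ] (Fin N → ℂ)) :=
  ((Matrix.toLinAlgEquiv' (R := ℂ) (n := Fin N)).toAlgHom : Matrix (Fin N) (Fin N) ℂ →* _).comp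
    (((algebraMap ℝ ℂ).mapMatrix : Matrix (Fin N) (Fin N) ℝ →+* Matrix (Fin N) (Fin N) ℂ).toMonoidHom.comp
      (((LinearMap.toMatrixAlgEquiv' (R := ℝ) (n := Fin N)).toAlgHom : _ →* Matrix (Fin N) (Fin N) ℝ).comp R))

theorem cplx_ne {K : Type u} [Group K] {N : ℕ} (R : K →* ((Fin N → ℝ) →ₗ[ℝ] (Fin N → ℝ))) {g : K} (hg : R g ≠ 1) :
    cplx R g ≠ 1 := by
  intro h
  apply hg
  have h1 : ((algebraMap ℝ ℂ).mapMatrix (LinearMap.toMatrixAlgEquiv' (R g)) : Matrix (Fin N) (Fin N) ℂ) = 1 := by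
    apply (Matrix.toLinAlgEquiv' (R := ℂ) (n := Fin N)).injective
    rw [map_one]
    exact h
  have h2 : (LinearMap.toMatrixAlgEquiv' (R g) : Matrix (Fin N) (Fin N) ℝ) = 1 := by
    have hinj : Function.Injective ((algebraMap ℝ ℂ).mapMatrix : Matrix (Fin N) (Fin N) ℝ →+* _) :=
      Matrix.map_injective (algebraMap ℝ ℂ).injective
    apply hinj
    rw [map_one]
    exact h1
  apply (LinearMap.toMatrixAlgEquiv' (R := ℝ) (n := Fin N)).injective
  rw [map_one]
  exact h2

end Cfsg.Agent.H859.Five
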