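import Cfsg.Agent.H691.Defs
import Cfsg.Agent.H547.SelfCent.Base
import Cfsg.Agent.H94.Sp.Base_m3
import Cfsg.Agent.H101.NilpPerm
import Cfsg.Agent.H613.Ly5.ThirtyOne
import Cfsg.Agent.H603.SporElim
import Cfsg.Agent.H713.Invol
import Cfsg.Agent.H710.VanCount
import Cfsg.Agent.Solvable.Hall
import Cfsg.Agent.TypeM.FactsLy
import Mathlib.GroupTheory.SpecificGroups.ZGroup
import Cfsg.Agent.FastGrp
import Cfsg.Agent.Prune
set_option linter.all false

section
prune_inst 0x7f00000000000000000000000000000000000000000000000000000000000000000000000000000000000000000000000000000000000000000000000000000000000000000000000000000000000000003fffffffffffffffffffffffffffbeffbdffffffff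

-- part: H474/TP/RowsE
section
set_option linter.all false
open scoped Cfsg.Agent.FastGrp

-- part: H474/TP/Base
section
/-!
# Two elements of prime power order with small centralizers: tools (helper474, for helper691's `TP`)

* `card_cent_dvd` : if no element of order `r` commutes with an involution, `|C(x)|` divides the odd part of `|S|`;
* `cent_le` : the upper bound for `|C(x)|` from Sylow arithmetic, checked by a Boolean test;
* `tp_two`, `tp_two'`, `tp_pair` : the predicate `TP`.
-/

set_option autoImplicit false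

namespace Cfsg.Agent.H474.TPRows

open Subgroup Cfsg.Agent.H393.Iso Cfsg.Agent.H691 Cfsg.Agent.H94

universe u

variable {S : Type u} [Group S]

theorem exists_order [Finite S] {r : ℕ} (hr : r.Prime) (h : r ∣ Nat.card S) : ∃ x : S, orderOf x = r := by
  have : Fact r.Prime := ⟨hr⟩
  exact exists_prime_orderOf_dvd_card' r h

/-- `|C(x)|` is odd -/
theorem odd_cent [Finite S] {r : ℕ} (na : NA r S) {x : S} (hx : orderOf x = r) :
    ¬ 2 ∣ Nat.card (centralizer ({x} : Set S)) := by
  intro h
  have : Fact (Nat.Prime 2) := ⟨Nat.prime_two⟩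
  obtain ⟨t, ht⟩ := exists_prime_orderOf_dvd_card' 2 h
  refine na x t hx ?_ ?_
  · rw [orderOf_coe]; exact ht
  · exact (mem_cent.1 t.2).symm

theorem card_cent_dvd [Finite S] {r a M : ℕ} (hN : Nat.card S = 2 ^ a * M) (na : NA r S) {x : S}
    (hx : orderOf x = r) : Nat.card (centralizer ({x} : Set S)) ∣ M := by
  have h1 : Nat.card (centralizer ({x} : Set S)) ∣ 2 ^ a * M := hN ▸ card_subgroup_dvd_card _
  exact (Nat.Coprime.dvd_mul_left (Nat.Coprime.pow_right a
    ((Nat.Prime.coprime_iff_not_dvd Nat.prime_two).2 (odd_cent na hx)).symm)).1 h1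

/-- **`TP` from an isolated prime and an involution** -/
theorem tp_two [Finite S] {L : List (ℕ × ℕ)} {B r a M c : ℕ} (hr : r.Prime) (hN : Nat.card S = 2 ^ a * M)
    (hrN : r ∣ 2 ^ a * M) (na : NA r S) {t : S} (ht : ∃ k : ℕ, t ^ 2 ^ k = 1)
    (hc : Nat.card (centralizer ({t} : Set S)) ≤ c) {b : ℕ}
    (hb : ∀ x : S, orderOf x = r → Nat.card (centralizer ({x} : Set S)) ≤ b)
    (hL : (2, r) ∈ L) (hlt : (c + b) * B < 2 ^ a * M) : TP S L B := by
  obtain ⟨x, hx⟩ := exists_order hr (hN ▸ hrN)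
  refine ⟨2, r, t, x, hL, ht, ⟨1, by rw [pow_one, ← hx, pow_orderOf_eq_one]⟩, ?_⟩
  rw [hN]
  exact lt_of_le_of_lt (Nat.mul_le_mul_right B (Nat.add_le_add hc (hb x hx))) hlt

/-- the simplest form -/
theorem tp_two' [Finite S] {L : List (ℕ × ℕ)} {B r a M c : ℕ} (hr : r.Prime) (hN : Nat.card S = 2 ^ a * M)
    (hM : 0 < M) (hrN : r ∣ 2 ^ a * M) (na : NA r S) {t : S} (ht : ∃ k : ℕ, t ^ 2 ^ k = 1)
    (hc : Nat.card (centralizer ({t} : Set S)) ≤ c) (hL : (2, r) ∈ L) (hlt : (c + M) * B < 2 ^ a * M) :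
    TP S L B :=
  tp_two hr hN hrN na ht hc (fun _ hx => Nat.le_of_dvd hM (card_cent_dvd hN na hx)) hL hlt

/-- two isolated primes -/
theorem tp_pair [Finite S] {L : List (ℕ × ℕ)} {B r r' a M : ℕ} (hr : r.Prime) (hr' : r'.Prime)
    (hN : Nat.card S = 2 ^ a * M) (hM : 0 < M)
    (hrN : r ∣ 2 ^ a * M) (hrN' : r' ∣ 2 ^ a * M) (na : NA r S) (na' : NA r' S) (hL : (r, r') ∈ L)
    (hlt : (M + M) * B < 2 ^ a * M) : TP S L B := by
  obtain ⟨x, hx⟩ := exists_order hr (hN ▸ hrN)
  obtain ⟨x', hx'⟩ := exists_order hr' (hN ▸ hrN')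
  refine ⟨r, r', x, x', hL, ⟨1, by rw [pow_one, ← hx, pow_orderOf_eq_one]⟩,
    ⟨1, by rw [pow_one, ← hx', pow_orderOf_eq_one]⟩, ?_⟩
  rw [hN]
  exact lt_of_le_of_lt (Nat.mul_le_mul_right B (Nat.add_le_add
    (Nat.le_of_dvd hM (card_cent_dvd hN na hx)) (Nat.le_of_dvd hM (card_cent_dvd hN na' hx')))) hlt

/-- an element of 2-power order from its order -/
theorem two_pow_of_orderOf {t : S} (h : orderOf t = 2) : ∃ k : ℕ, t ^ 2 ^ k = 1 :=
  ⟨1, by rw [pow_one, ← h, pow_orderOf_eq_one]⟩

theorem two_pow_of_sq {X : Type*} [Group X] {t : X} (h : t * t = 1) : ∃ k : ℕ, t ^ 2 ^ k = 1 :=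
  ⟨1, by rw [pow_one, pow_two]; exact h⟩

/-- the centralizer order `M / k` passes the Sylow arithmetic -/
def bad (N M r k : ℕ) : Bool :=
  Nat.beq (M % k) 0 && Nat.beq ((M / k) % r) 0 &&
    (List.range r).any fun e => !(Nat.beq e 0) && Nat.beq ((r - 1) % e) 0 && Nat.beq (N % (M / k * e)) 0 &&
      Nat.beq (N / (M / k * e) % r) 1

/-- no `k ≤ K` is possible -/
def chk (N M r K : ℕ) : Bool := (List.range K).all fun k => !(bad N M r (k + 1))

theorem cent_le [Finite S] {r a M K : ℕ} (hr : r.Prime) (hN : Nat.card S = 2 ^ a * M) (hM : 0 < M)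
    (hrr : ¬ r * r ∣ 2 ^ a * M) (na : NA r S) (hc : chk (2 ^ a * M) M r K = true) {x : S} (hx : orderOf x = r) :
    Nat.card (centralizer ({x} : Set S)) ≤ M / (K + 1) := by
  obtain ⟨e, he, h1, h2⟩ := PG.Sp.sylow_arith hr hx (hN ▸ hrr)
  obtain ⟨k, hk⟩ := card_cent_dvd hN na hx
  set c := Nat.card (centralizer ({x} : Set S)) with hcdef
  have hc0 : 0 < c := Nat.card_pos
  have hk0 : 0 < k := Nat.pos_of_ne_zero (by rintro rfl; omega)
  by_cases hkK : K < k
  · rw [Nat.le_div_iff_mul_le (Nat.succ_pos K), hk]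
    exact Nat.mul_le_mul_left c hkK
  · exfalso
    push Not at hkK
    rw [chk, List.all_eq_true] at hc
    have h3 := hc (k - 1) (List.mem_range.2 (by omega))
    rw [Nat.sub_add_cancel hk0] at h3
    have hMk : M / k = c := by rw [hk]; exact Nat.mul_div_cancel _ hk0
    have he0 : 0 < e := Nat.pos_of_ne_zero (by
      rintro rfl
      rw [zero_dvd_iff] at he
      have := hr.two_le
      omega)
    have her : e < r := lt_of_le_of_lt (Nat.le_of_dvd (by have := hr.two_le; omega) he) (by have := hr.two_le; omega)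
    have hbad : bad (2 ^ a * M) M r k = true := by
      unfold bad
      rw [hMk, Bool.and_eq_true, Bool.and_eq_true, List.any_eq_true]
      refine ⟨⟨?_, ?_⟩, e, List.mem_range.2 her, ?_⟩
      · rw [Nat.beq_eq]; exact Nat.mod_eq_zero_of_dvd ⟨c, by rw [hk, mul_comm]⟩
      · rw [Nat.beq_eq]
        apply Nat.mod_eq_zero_of_dvd
        have h5 := orderOf_dvd_natCard (⟨x, mem_cent.2 rfl⟩ : centralizer ({x} : Set S))
        rwa [Subgroup.orderOf_mk, hx] at h5
      · rw [Bool.and_eq_true, Bool.and_eq_true, Bool.and_eq_true]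
        rw [hN] at h1 h2
        refine ⟨⟨⟨?_, ?_⟩, ?_⟩, ?_⟩
        · rw [Bool.not_eq_true', ← Bool.not_eq_true, Nat.beq_eq]; omega
        · rw [Nat.beq_eq]; exact Nat.mod_eq_zero_of_dvd he
        · rw [Nat.beq_eq]; exact Nat.mod_eq_zero_of_dvd h1
        · rw [Nat.beq_eq, h2]; exact Nat.mod_eq_of_lt hr.one_lt
    rw [hbad] at h3
    exact absurd h3 (by decide)

theorem card_cent_map {X : Type*} {Y : Type*} [Group X] [Group Y] (e : X ≃* Y) (z : X) :
    Nat.card (centralizer ({e z} : Set Y)) = Nat.card (centralizer ({z} : Set X)) := by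
  have h1 : centralizer ({e z} : Set Y) = (centralizer ({z} : Set X)).map e.toMonoidHom := by
    ext y
    rw [mem_map_equiv, mem_centralizer_singleton_iff, mem_centralizer_singleton_iff]
    constructor
    · intro h
      apply e.injective
      rw [map_mul, map_mul, e.apply_symm_apply]
      exact h
    · intro h
      have h2 := congrArg e h
      rwa [map_mul, map_mul, e.apply_symm_apply] at h2
  rw [h1]
  exact (Nat.card_congr ((centralizer ({z} : Set X)).equivMapOfInjective _ e.injective).toEquiv).symm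

theorem card_cent_conj {X : Type*} [Group X] {g a b : X} (h : g * a * g⁻¹ = b) :
    Nat.card (centralizer ({b} : Set X)) = Nat.card (centralizer ({a} : Set X)) := by
  rw [← h]
  exact card_cent_map (MulAut.conj g) a

theorem card_cent_isConj {X : Type*} [Group X] {a b : X} (h : IsConj a b) :
    Nat.card (centralizer ({b} : Set X)) = Nat.card (centralizer ({a} : Set X)) := by
  obtain ⟨g, hg⟩ := isConj_iff.1 h
  exact card_cent_conj hg

/-- transport -/
theorem tp_of_equiv {X : Type*} {Y : Type*} [Group X] [Group Y] (e : X ≃* Y) {L : List (ℕ × ℕ)} {B : ℕ}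
    (h : TP X L B) : TP Y L B := by
  obtain ⟨l, l', x, x', hL, ⟨a, ha⟩, ⟨b, hb⟩, hlt⟩ := h
  refine ⟨l, l', e x, e x', hL, ⟨a, by rw [← map_pow, ha, map_one]⟩, ⟨b, by rw [← map_pow, hb, map_one]⟩, ?_⟩
  rw [card_cent_map e, card_cent_map e, ← Nat.card_congr e.toEquiv]
  exact hlt

end Cfsg.Agent.H474.TPRows
end

-- part: H474/TP/Inter
section
/-!
# The intersection with the centralizer of an involution (helper474)

If `|S : C(x)| = 2 ^ a * k`, then `D = C(t) ∩ C(x)` satisfies `|C(t)| ≤ |D| * (2 ^ a * k)`; it has odd order if the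
order of `x` is an isolated prime.
-/

set_option autoImplicit false

namespace Cfsg.Agent.H474.TPRows

open Subgroup Cfsg.Agent.H393.Iso Cfsg.Agent.H691 Cfsg.Agent.H94

universe u

variable {S : Type u} [Group S]

theorem card_le_inf_mul_index [Finite S] (H K : Subgroup S) :
    Nat.card H ≤ Nat.card (H ⊓ K : Subgroup S) * K.index := by
  have h1 : Nat.card (K.subgroupOf H) * (K.subgroupOf H).index = Nat.card H := card_mul_index _
  have h2 : Nat.card (K.subgroupOf H) = Nat.card (H ⊓ K : Subgroup S) := by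
    rw [← inf_subgroupOf_left, Nat.card_congr (subgroupOfEquivOfLe inf_le_left).toEquiv]
  have h3 : (K.subgroupOf H).index ≤ K.index := by
    have := relIndex_le_of_le_right (H := K) (K := H) (L := ⊤) le_top (by
      rw [relIndex_top_right]; exact index_ne_zero_of_finite)
    rwa [relIndex_top_right] at this
  rw [← h1, h2]
  exact Nat.mul_le_mul_left _ h3

/-- `C(t) ∩ C(x)` -/
abbrev D (t x : S) : Subgroup S := centralizer ({t} : Set S) ⊓ centralizer ({x} : Set S)

theorem odd_D [Finite S] {r : ℕ} (na : NA r S) {x : S} (hx : orderOf x = r) (t : S) :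
    ¬ 2 ∣ Nat.card (D t x) :=
  fun h => odd_cent na hx (h.trans (card_dvd_of_le inf_le_right))

theorem card_D_ge [Finite S] {a M k : ℕ} (hN : Nat.card S = 2 ^ a * M) (hM : 0 < M) {x : S}
    (hk : Nat.card (centralizer ({x} : Set S)) * k = M) (t : S) :
    Nat.card (centralizer ({t} : Set S)) ≤ Nat.card (D t x) * (2 ^ a * k) := by
  have h1 := card_mul_index (centralizer ({x} : Set S))
  have h2 : (centralizer ({x} : Set S)).index = 2 ^ a * k := by
    have hc : 0 < Nat.card (centralizer ({x} : Set S)) := Nat.card_pos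
    apply Nat.eq_of_mul_eq_mul_left hc
    rw [h1, hN, ← hk]
    ring
  have h3 := card_le_inf_mul_index (centralizer ({t} : Set S)) (centralizer ({x} : Set S))
  rwa [h2] at h3

/-- all `k ≤ K` are excluded by the Sylow arithmetic except the members of `ks` -/
def chkE (N M r K : ℕ) (ks : List ℕ) : Bool :=
  (List.range K).all fun k => !(bad N M r (k + 1)) || ks.any fun j => Nat.beq j (k + 1)

theorem cent_or [Finite S] {r a M K : ℕ} {ks : List ℕ} (hr : r.Prime) (hN : Nat.card S = 2 ^ a * M) (hM : 0 < M)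
    (hrr : ¬ r * r ∣ 2 ^ a * M) (na : NA r S) (hc : chkE (2 ^ a * M) M r K ks = true) {x : S}
    (hx : orderOf x = r) : Nat.card (centralizer ({x} : Set S)) ≤ M / (K + 1) ∨
      ∃ k ∈ ks, Nat.card (centralizer ({x} : Set S)) * k = M := by
  obtain ⟨e, he, h1, h2⟩ := PG.Sp.sylow_arith hr hx (hN ▸ hrr)
  obtain ⟨k, hk⟩ := card_cent_dvd hN na hx
  set c := Nat.card (centralizer ({x} : Set S)) with hcdef
  have hc0 : 0 < c := Nat.card_pos
  have hk0 : 0 < k := Nat.pos_of_ne_zero (by rintro rfl; omega)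
  by_cases hkK : K < k
  · left
    rw [Nat.le_div_iff_mul_le (Nat.succ_pos K), hk]
    exact Nat.mul_le_mul_left c hkK
  · right
    push Not at hkK
    rw [chkE, List.all_eq_true] at hc
    have h3 := hc (k - 1) (List.mem_range.2 (by omega))
    rw [Nat.sub_add_cancel hk0] at h3
    have hMk : M / k = c := by rw [hk]; exact Nat.mul_div_cancel _ hk0
    have he0 : 0 < e := Nat.pos_of_ne_zero (by
      rintro rfl
      rw [zero_dvd_iff] at he
      have := hr.two_le
      omega)
    have her : e < r := lt_of_le_of_lt (Nat.le_of_dvd (by have := hr.two_le; omega) he) (by have := hr.two_le; omega)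
    have hbad : bad (2 ^ a * M) M r k = true := by
      unfold bad
      rw [hMk, Bool.and_eq_true, Bool.and_eq_true, List.any_eq_true]
      refine ⟨⟨?_, ?_⟩, e, List.mem_range.2 her, ?_⟩
      · rw [Nat.beq_eq]; exact Nat.mod_eq_zero_of_dvd ⟨c, by rw [hk, mul_comm]⟩
      · rw [Nat.beq_eq]
        apply Nat.mod_eq_zero_of_dvd
        have h5 := orderOf_dvd_natCard (⟨x, mem_cent.2 rfl⟩ : centralizer ({x} : Set S))
        rwa [Subgroup.orderOf_mk, hx] at h5
      · rw [Bool.and_eq_true, Bool.and_eq_true, Bool.and_eq_true]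
        rw [hN] at h1 h2
        refine ⟨⟨⟨?_, ?_⟩, ?_⟩, ?_⟩
        · rw [Bool.not_eq_true', ← Bool.not_eq_true, Nat.beq_eq]; omega
        · rw [Nat.beq_eq]; exact Nat.mod_eq_zero_of_dvd he
        · rw [Nat.beq_eq]; exact Nat.mod_eq_zero_of_dvd h1
        · rw [Nat.beq_eq, h2]; exact Nat.mod_eq_of_lt hr.one_lt
    rw [hbad, Bool.not_true, Bool.false_or, List.any_eq_true] at h3
    obtain ⟨j, hj, hjk⟩ := h3
    rw [Nat.beq_eq] at hjk
    exact ⟨j, hj, by rw [hjk, hk]⟩

end Cfsg.Agent.H474.TPRows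
end

-- part: H474/TP/OddPerm
section
/-!
# Permutation groups of odd order of degree at most 11 (helper474)

`card_le` : an odd order subgroup of `Perm Ω`, `|Ω| ≤ 11`, has order at most `g |Ω|`, where
`g = 1, 1, 1, 3, 3, 5, 9, 21, 21, 189, 189, 2079` for `|Ω| = 0, …, 11`.
-/

set_option autoImplicit false

namespace Cfsg.Agent.H474.OddPerm

open MulAction Cfsg.Agent.H101.NilpPerm Cfsg.Agent.H94

universe u v

/-- the bound -/
def g : ℕ → ℕ
  | 0 => 1
  | 1 => 1
  | 2 => 1
  | 3 => 3
  | 4 => 3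
  | 5 => 5
  | 6 => 9
  | 7 => 21
  | 8 => 21
  | 9 => 189
  | 10 => 189
  | _ => 2079

/-- an element of prime order `|Ω|` is self-centralizing in `Perm Ω` -/
theorem mem_zpowers {Ω : Type v} [Finite Ω] {p : ℕ} (hp : p.Prime) (hΩ : Nat.card Ω = p) {x c : Equiv.Perm Ω}
    (hx : orderOf x = p) (hc : c * x = x * c) : c ∈ Subgroup.zpowers x := by
  have hx1 : x ≠ 1 := by
    rintro rfl
    rw [orderOf_one] at hx
    exact hp.one_lt.ne hx
  obtain ⟨a, ha⟩ : ∃ a, x a ≠ a := by
    by_contra h
    push Not at h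
    exact hx1 (Equiv.ext h)
  have hcard : Nat.card (orbit (Subgroup.zpowers x) a) ∣ p := by
    rw [Nat.card_congr (MulAction.orbitEquivQuotientStabilizer (Subgroup.zpowers x) a), ← hx, ← Nat.card_zpowers x]
    exact Subgroup.index_dvd_card _
  have horb : ∀ b : Ω, b ∈ orbit (Subgroup.zpowers x) a := by
    rcases (Nat.dvd_prime hp).1 hcard with h | h
    · exfalso
      have h1 : (⟨x a, ⟨⟨x, Subgroup.mem_zpowers x⟩, rfl⟩⟩ : orbit (Subgroup.zpowers x) a) = ⟨a, mem_orbit_self a⟩ :=
        (Nat.card_eq_one_iff_unique.1 h).1.elim _ _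
      exact ha (congrArg Subtype.val h1)
    · have h1 : (orbit (Subgroup.zpowers x) a) = Set.univ := by
        apply Set.eq_of_subset_of_ncard_le (Set.subset_univ _) _ (Set.toFinite _)
        rw [Set.ncard_univ, ← Nat.card_coe_set_eq, h, hΩ]
      intro b
      rw [h1]
      exact Set.mem_univ b
  obtain ⟨⟨y, hy⟩, hya⟩ := horb (c a)
  obtain ⟨k, rfl⟩ := Subgroup.mem_zpowers_iff.1 hy
  have hya' : (x ^ k) a = c a := hya
  refine Subgroup.mem_zpowers_iff.2 ⟨k, ?_⟩
  ext b
  obtain ⟨⟨z, hz⟩, hzb⟩ := horb b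
  obtain ⟨j, rfl⟩ := Subgroup.mem_zpowers_iff.1 hz
  have hzb' : (x ^ j) a = b := hzb
  have hcj : c * x ^ j = x ^ j * c := ((show Commute c x from hc).zpow_right j).eq
  calc (x ^ k) b = (x ^ k * x ^ j) a := by rw [← hzb']; rfl
    _ = (x ^ j * x ^ k) a := by rw [← zpow_add, ← zpow_add, add_comm]
    _ = (x ^ j) (c a) := by rw [← hya']; rfl
    _ = (c * x ^ j) a := by rw [hcj]; rfl
    _ = c b := by rw [← hzb']; rfl

/-- odd transitive groups of degree 5 -/
theorem arith5 {q e : ℕ} (h1 : q ≤ 15) (h2 : 5 ∣ q) (h3 : ¬ 2 ∣ q) (he : e ∣ 4) (h4 : 5 * e ∣ q)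
    (h5 : q / (5 * e) % 5 = 1) : q ≤ 5 := by
  have : e ≤ 4 := Nat.le_of_dvd (by norm_num) he
  interval_cases q <;> first | omega | (interval_cases e <;> omega)

theorem arith7 {q e : ℕ} (h1 : q ≤ 63) (h2 : 7 ∣ q) (h3 : ¬ 2 ∣ q) (he : e ∣ 6) (h4 : 7 * e ∣ q)
    (h5 : q / (7 * e) % 7 = 1) : q ≤ 21 := by
  have : e ≤ 6 := Nat.le_of_dvd (by norm_num) he
  interval_cases q <;> first | omega | (interval_cases e <;> omega)

theorem card_prime {Ω : Type v} [Finite Ω] {p : ℕ} (hp : p.Prime) (hΩ : Nat.card Ω = p) (hpp : ¬ p * p ∣ p.factorial)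
    (Q : Subgroup (Equiv.Perm Ω)) (hpQ : p ∣ Nat.card Q) :
    ∃ e, e ∣ p - 1 ∧ p * e ∣ Nat.card Q ∧ Nat.card Q / (p * e) % p = 1 := by
  have hpf : Fact p.Prime := ⟨hp⟩
  obtain ⟨x, hx⟩ := exists_prime_orderOf_dvd_card' (G := Q) p hpQ
  have h1 : ¬ p * p ∣ Nat.card Q := by
    intro h
    apply hpp
    have h2 := h.trans (Subgroup.card_subgroup_dvd_card Q)
    rwa [Nat.card_perm, hΩ] at h2
  obtain ⟨e, he, h2, h3⟩ := PG.Sp.sylow_arith hp hx h1
  have hc : Nat.card (Subgroup.centralizer ({x} : Set Q)) = p := by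
    have hx' : orderOf (x : Equiv.Perm Ω) = p := by rw [Subgroup.orderOf_coe]; exact hx
    have h4 : Subgroup.centralizer ({x} : Set Q) ≤ Subgroup.zpowers x := by
      intro c hc
      have h5 := mem_zpowers hp hΩ hx' (congrArg Subtype.val (Subgroup.mem_centralizer_singleton_iff.1 hc))
      obtain ⟨k, hk⟩ := Subgroup.mem_zpowers_iff.1 h5
      exact Subgroup.mem_zpowers_iff.2 ⟨k, Subtype.ext hk⟩
    have h5 := Subgroup.card_dvd_of_le h4
    rw [Nat.card_zpowers, hx] at h5
    have h6 : p ∣ Nat.card (Subgroup.centralizer ({x} : Set Q)) := by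
      have h7 := orderOf_dvd_natCard (⟨x, Subgroup.mem_centralizer_singleton_iff.2 rfl⟩ :
        Subgroup.centralizer ({x} : Set Q))
      rwa [Subgroup.orderOf_mk, hx] at h7
    exact Nat.dvd_antisymm h5 h6
  rw [hc] at h2 h3
  exact ⟨e, he, h2, by rw [h3]; exact Nat.mod_eq_of_lt hp.one_lt⟩

theorem index_ker_dvd (N : Type u) [Group N] [Finite N] (Ω : Type v) [Finite Ω] [MulAction N Ω] :
    (MulAction.toPermHom N Ω).ker.index ∣ Nat.card N := Subgroup.index_dvd_card _

/-- the transitive step -/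
theorem index_ker_trans (N : Type u) [Group N] [Finite N] (Ω : Type v) [Finite Ω] [MulAction N Ω] (a : Ω)
    (h : Nat.card (orb N a) = Nat.card Ω) :
    ∃ k, (MulAction.toPermHom N Ω).ker.index = Nat.card Ω * k ∧
      k ≤ (MulAction.toPermHom (stabilizer N a) (orb (stabilizer N a) a)).ker.index *
        (MulAction.toPermHom (stabilizer N a) ((orb (stabilizer N a) a)ᶜ : SubMulAction (stabilizer N a) Ω)).ker.index := by
  have hle : (MulAction.toPermHom N Ω).ker ≤ stabilizer N a := by
    intro x hx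
    rw [mem_stabilizer_iff]
    have := congrArg (fun f : Equiv.Perm Ω => f a) (MonoidHom.mem_ker.1 hx)
    exact this
  have h1 := Subgroup.relIndex_mul_index hle
  have h2 : (stabilizer N a).index = Nat.card Ω := by
    rw [← h, card_orb, Nat.card_congr (MulAction.orbitEquivQuotientStabilizer N a)]
    rfl
  refine ⟨(MulAction.toPermHom N Ω).ker.relIndex (stabilizer N a), ?_, ?_⟩
  · rw [← h1, h2, mul_comm]
  · refine le_trans (le_of_eq ?_) (index_ker_le_mul (orb (stabilizer N a) a))
    rw [Subgroup.relIndex]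
    rfl

theorem index_ker_le : ∀ (n : ℕ), n ≤ 11 → ∀ (N : Type u) [Group N] [Finite N], ¬ 2 ∣ Nat.card N →
    ∀ (Ω : Type v) [Finite Ω] [MulAction N Ω], Nat.card Ω = n → (MulAction.toPermHom N Ω).ker.index ≤ g n := by
  intro n
  induction n using Nat.strong_induction_on with
  | _ n ih =>
    intro hn N _ _ hodd Ω _ _ hcard
    have hfac : (MulAction.toPermHom N Ω).ker.index ∣ n.factorial := by
      rw [Subgroup.index_ker]
      refine (Subgroup.card_subgroup_dvd_card _).trans ?_
      rw [Nat.card_perm, hcard]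
    by_cases hn1 : n ≤ 1
    · have h1 : n.factorial = 1 := by interval_cases n <;> rfl
      have h2 : g n = 1 := by interval_cases n <;> rfl
      rw [h1] at hfac
      rw [h2, Nat.dvd_one.1 hfac]
    push Not at hn1
    have hne : Nonempty Ω := (Nat.card_pos_iff.1 (by rw [hcard]; omega)).1
    obtain ⟨a⟩ := hne
    have hadd := card_add_card_compl (orb N a)
    have hpos : 0 < Nat.card (orb N a) := Nat.card_pos_iff.2 ⟨⟨⟨a, mem_orbit_self a⟩⟩, inferInstance⟩
    by_cases hlt : Nat.card (orb N a) < n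
    · have h1 := ih _ hlt (by omega) N hodd (orb N a) rfl
      have h2 := ih (Nat.card ((orb N a)ᶜ : SubMulAction N Ω)) (by omega) (by omega) N hodd
        ((orb N a)ᶜ : SubMulAction N Ω) rfl
      have he : Nat.card ((orb N a)ᶜ : SubMulAction N Ω) = n - Nat.card (orb N a) := by omega
      rw [he] at h2
      refine (index_ker_le_mul (orb N a)).trans ((Nat.mul_le_mul h1 h2).trans ?_)
      generalize Nat.card (orb N a) = m at hpos hlt
      interval_cases n <;> interval_cases m <;> decide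
    · have heq : Nat.card (orb N a) = Nat.card Ω := by omega
      obtain ⟨k, hk, hk2⟩ := index_ker_trans N Ω a heq
      have hoddS : ¬ 2 ∣ Nat.card (stabilizer N a) := fun h => hodd (h.trans (Subgroup.card_subgroup_dvd_card _))
      have hS : Nat.card (orb (stabilizer N a) a) = 1 := by
        rw [card_orb]
        have h1 : orbit (stabilizer N a) a = {a} := by
          ext b
          constructor
          · rintro ⟨x, rfl⟩
            exact x.2
          · rintro rfl
            exact mem_orbit_self _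
        rw [h1, Nat.card_unique]
      have hadd' := card_add_card_compl (orb (stabilizer N a) a)
      have h1 := ih 1 (by omega) (by omega) (stabilizer N a) hoddS (orb (stabilizer N a) a) hS
      have h2 := ih (n - 1) (by omega) (by omega) (stabilizer N a) hoddS
        ((orb (stabilizer N a) a)ᶜ : SubMulAction (stabilizer N a) Ω) (by omega)
      have h3 : k ≤ g (n - 1) := by
        refine hk2.trans ((Nat.mul_le_mul h1 h2).trans ?_)
        rw [show g 1 = 1 from rfl, one_mul]
      have hoddk : ¬ 2 ∣ (MulAction.toPermHom N Ω).ker.index := fun h => hodd (h.trans (index_ker_dvd N Ω))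
      rw [hcard] at hk
      have hle : (MulAction.toPermHom N Ω).ker.index ≤ n * g (n - 1) := by
        rw [hk]; exact Nat.mul_le_mul_left n h3
      have hn2 : ¬ 2 ∣ n := fun h => hoddk (by rw [hk]; exact Dvd.dvd.mul_right h k)
      have hrng : (MulAction.toPermHom N Ω).ker.index = Nat.card (MulAction.toPermHom N Ω).range :=
        Subgroup.index_ker _
      have hdvd : n ∣ Nat.card (MulAction.toPermHom N Ω).range := by rw [← hrng, hk]; exact Dvd.intro _ rfl
      interval_cases n
      · omega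
      · exact hle
      · omega
      · obtain ⟨e, he, h5, h6⟩ := card_prime (by norm_num) hcard (by decide) _ hdvd
        rw [← hrng] at h5 h6 hdvd
        exact arith5 hle hdvd hoddk he h5 h6
      · omega
      · obtain ⟨e, he, h5, h6⟩ := card_prime (by norm_num) hcard (by decide) _ hdvd
        rw [← hrng] at h5 h6 hdvd
        exact arith7 hle hdvd hoddk he h5 h6
      · omega
      · exact hle
      · omega
      · exact hle

/-- **odd order subgroups of `Perm Ω`, `|Ω| ≤ 11`** -/
theorem card_le {Ω : Type v} [Finite Ω] (hn : Nat.card Ω ≤ 11) (Q : Subgroup (Equiv.Perm Ω)) (hQ : ¬ 2 ∣ Nat.card Q) :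
    Nat.card Q ≤ g (Nat.card Ω) := by
  rw [← index_ker_subgroup Q]
  exact index_ker_le _ hn Q hQ Ω rfl

/-- a group of odd order with a homomorphism to `Perm Ω` with kernel of order at most 2 -/
theorem card_le_of_hom {X : Type u} [Group X] [Finite X] (hX : ¬ 2 ∣ Nat.card X) {Ω : Type v} [Finite Ω]
    (hn : Nat.card Ω ≤ 11) (f : X →* Equiv.Perm Ω) (hf : Function.Injective f) : Nat.card X ≤ g (Nat.card Ω) := by
  have h1 : Nat.card f.range = Nat.card X := (Nat.card_congr (MonoidHom.ofInjective hf).toEquiv).symm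
  rw [← h1]
  exact card_le hn f.range (by rw [h1]; exact hX)

end Cfsg.Agent.H474.OddPerm
end

-- part: H474/TP/RowsE
section
/-!
# `TP` rows: `McL`, `Ly` (helper474)
-/

set_option autoImplicit false

namespace Cfsg.Agent.H474.TPRows

open Subgroup Cfsg Equiv Cfsg.Agent.H393.Iso Cfsg.Agent.H691 Cfsg.Agent.H94
open Cfsg.Agent.SporRec.TwoAn Cfsg.Agent.TypeM.Two

theorem card_cover {n : ℕ} (hn : 2 ≤ n) {C : Type*} [Group C] [Finite C] (K : Cover (Fin n) C) :
    Nat.card C = n.factorial := by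
  have h1 := Subgroup.card_mul_index K.π.ker
  have h2 : K.π.ker.index = Nat.card (alternatingGroup (Fin n)) := by
    rw [Subgroup.index_ker, K.range_eq]
  have h3 : Nat.card K.π.ker = 2 := by
    have h4 : K.π.ker = zpowers K.z := by
      ext x
      rw [MonoidHom.mem_ker, K.ker]
      constructor
      · rintro (rfl | rfl)
        · exact one_mem _
        · exact mem_zpowers _
      · rintro ⟨k, rfl⟩
        rcases Int.even_or_odd' k with ⟨j, rfl | rfl⟩
        · left
          change K.z ^ (2 * j) = 1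
          rw [zpow_mul, zpow_two, K.z_mul_z, one_zpow]
        · right
          change K.z ^ (2 * j + 1) = K.z
          rw [zpow_add, zpow_mul, zpow_two, K.z_mul_z, one_zpow, one_mul, zpow_one]
    rw [h4, Nat.card_zpowers]
    exact orderOf_eq_prime (by rw [pow_two]; exact K.z_mul_z) K.z_ne
  have hnt : Nontrivial (Fin n) := Fin.nontrivial_iff_two_le.2 hn
  have h5 : 2 * Nat.card (alternatingGroup (Fin n)) = n.factorial := by
    have := two_mul_nat_card_alternatingGroup (α := Fin n)
    rw [this, Nat.card_perm, Nat.card_eq_fintype_card, Fintype.card_fin]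
  rw [← h1, h2, h3, h5]

/-- a subgroup of odd order of `C(t) = 2·A_n`, `n ≤ 11` -/
theorem card_le_mt {G : Type*} [Group G] [Finite G] {n : ℕ} (hn : n ≤ 11) (L : MT n G) {D : Subgroup G}
    (hD : ¬ 2 ∣ Nat.card D) (hDt : D ≤ centralizer ({L.t} : Set G)) : Nat.card D ≤ OddPerm.g n := by
  have h1 := OddPerm.card_le_of_hom (X := D) hD (Ω := Fin n) (by simpa using hn)
    (L.K.π.comp (inclusion hDt)) (by
      rw [injective_iff_map_eq_one]
      intro x hx
      rcases (L.K.ker _).1 hx with h | h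
      · exact inclusion_injective hDt (by rw [h, map_one])
      · exfalso
        apply hD
        have h2 : orderOf x = 2 := by
          rw [← orderOf_injective _ (inclusion_injective hDt), h]
          exact orderOf_eq_prime (by rw [pow_two]; exact L.K.z_mul_z) L.K.z_ne
        rw [← h2]
        exact orderOf_dvd_natCard x)
  simpa using h1

theorem mcl {S : Type*} [Group S] (h : Spor.IsoMcL S) : Cfsg.Agent.H691.TP S [(2, 7), (2, 11), (3, 5), (3, 7), (3, 11), (5, 7), (5, 11), (7, 11)] (50 ^ 2) := by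
  have hc := NotCT.Orders.mcl h
  have hfin : Finite S := Nat.finite_of_card_ne_zero (by rw [hc]; norm_num)
  have hN : Nat.card S = 2 ^ 7 * 7016625 := by
    rw [hc]; norm_num
  have na := na_mcl h
  obtain ⟨-, -, -, ⟨L⟩⟩ := Cfsg.Agent.TypeM.FactsMcL.facts h
  have hct : Nat.card (centralizer ({L.t} : Set S)) = 40320 := by
    rw [card_cover (by norm_num) L.K]; rfl
  refine tp_two (r := 11) (t := L.t) (c := 40320) (b := 7016625 / (22 + 1)) (by norm_num) hN (by norm_num)
    na (two_pow_of_sq L.t_mul_t) hct.le ?_ (by simp) (by norm_num)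
  intro x hx
  rcases cent_or (K := 22) (ks := [5]) (by norm_num) hN (by norm_num) (by norm_num) na (by decide +kernel) hx with
    h1 | ⟨k, hk, h1⟩
  · exact h1
  · exfalso
    have h2 := card_D_ge hN (by norm_num) h1 L.t
    have h3 := card_le_mt (by norm_num) L (odd_D na hx L.t) inf_le_left
    simp only [List.mem_singleton] at hk
    subst hk
    rw [hct] at h2
    rw [show OddPerm.g 8 = 21 from rfl] at h3
    omega

theorem ly {S : Type*} [Group S] (h : Spor.IsoLy S) : Cfsg.Agent.H691.TP S [(2, 11), (2, 37), (2, 67), (3, 31), (3, 37), (3, 67), (5, 7), (5, 11), (5, 31), (5, 37), (5, 67), (7, 11), (7, 31), (7, 37), (7, 67), (11, 31), (11, 37), (11, 67), (31, 37), (31, 67), (37, 67)] (126 ^ 2) := by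
  have hc := NotCT.Orders.ly h
  have hfin : Finite S := Nat.finite_of_card_ne_zero (by rw [hc]; norm_num)
  have hN : Nat.card S = 2 ^ 8 * 202207730484375 := by
    rw [hc]; norm_num
  have na := na_ly h
  obtain ⟨-, -, -, ⟨L⟩⟩ := Cfsg.Agent.TypeM.FactsLy.facts h
  have hct : Nat.card (centralizer ({L.t} : Set S)) = 39916800 := by
    rw [card_cover (by norm_num) L.K]; rfl
  refine tp_two (r := 67) (t := L.t) (c := 39916800) (b := 202207730484375 / (62 + 1)) (by norm_num) hN (by norm_num)
    na (two_pow_of_sq L.t_mul_t) hct.le ?_ (by simp) (by norm_num)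
  intro x hx
  rcases cent_or (K := 62) (ks := [11, 33]) (by norm_num) hN (by norm_num) (by norm_num) na (by decide +kernel) hx with
    h1 | ⟨k, hk, h1⟩
  · exact h1
  · exfalso
    have h2 := card_D_ge hN (by norm_num) h1 L.t
    have h3 := card_le_mt (by norm_num) L (odd_D na hx L.t) inf_le_left
    rw [hct] at h2
    rw [show OddPerm.g 11 = 2079 from rfl] at h3
    simp only [List.mem_cons, List.not_mem_nil, or_false] at hk
    rcases hk with rfl | rfl <;> omega

end Cfsg.Agent.H474.TPRows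
end

private theorem dce_7c1cf358772c : _root_.True := by
  try have : _root_.True := by simp only [_root_.Cfsg.Agent.H474.TPRows.chkE.eq_1]
  try have : _root_.True := by simp only [_root_.Cfsg.Agent.H474.TPRows.chk.eq_1]
  exact _root_.True.intro
end

-- part: H859/Five/LyDZ
section
set_option linter.all false
open scoped Cfsg.Agent.FastGrp

/-!
# `Ly`: a character of 67-defect zero (helper859, for S4898)

If there is none then an element `x` of order `67` is inverted by an involution `t` and `|C(x) ∩ C(t)|` is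
`35`, `105`, `4725` or `14175`. But `C(t) = 2.A_11` has no subgroup of such an order.
-/

set_option autoImplicit false

namespace Cfsg.Agent.H859.Five.LyDZ

open Cfsg Subgroup Cfsg.Agent.TypeM.Two Cfsg.Agent.H665.NoPQ Equiv

theorem exists_dvd_of_lcm {p : ℕ} (hp : p.Prime) (s : Multiset ℕ) (h : p ∣ s.lcm) : ∃ n ∈ s, p ∣ n := by
  induction s using Multiset.induction with
  | empty =>
    rw [Multiset.lcm_zero, Nat.dvd_one] at h
    exact absurd h hp.one_lt.ne'
  | cons a s ih =>
    rw [Multiset.lcm_cons] at h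
    have h1 : p ∣ Nat.lcm a s.lcm := h
    rcases (hp.dvd_mul).1 (h1.trans (Nat.lcm_dvd_mul a s.lcm)) with h2 | h2
    · exact ⟨a, Multiset.mem_cons_self a s, h2⟩
    · obtain ⟨n, hn, hpn⟩ := ih h2
      exact ⟨n, Multiset.mem_cons_of_mem hn, hpn⟩

theorem no35 (σ : Perm (Fin 11)) : orderOf σ ≠ 35 := by
  intro h
  rw [← Perm.lcm_cycleType] at h
  obtain ⟨m, hm, h7⟩ := exists_dvd_of_lcm (p := 7) (by norm_num) σ.cycleType (by rw [h]; norm_num)
  obtain ⟨n, hn, h5⟩ := exists_dvd_of_lcm (p := 5) (by norm_num) σ.cycleType (by rw [h]; norm_num)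
  have hsum : σ.cycleType.sum ≤ 11 := by
    rw [Perm.sum_cycleType]
    simpa using Finset.card_le_univ σ.support
  have hm2 := Perm.two_le_of_mem_cycleType hm
  have hn2 := Perm.two_le_of_mem_cycleType hn
  have hm7 := Nat.le_of_dvd (by omega) h7
  have hn5 := Nat.le_of_dvd (by omega) h5
  have hmle : m ≤ 11 := (Multiset.single_le_sum (fun _ _ => Nat.zero_le _) m hm).trans hsum
  have hm' : m = 7 := by
    obtain ⟨k, hk⟩ := h7
    omega
  have hne : m ≠ n := by
    rintro rfl
    rw [hm'] at h5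
    norm_num at h5
  obtain ⟨s, hs⟩ := Multiset.exists_cons_of_mem hm
  rw [hs] at hn hsum
  have hn' : n ∈ s := (Multiset.mem_cons.1 hn).resolve_left hne.symm
  have h1 := Multiset.single_le_sum (fun _ _ => Nat.zero_le _) n hn'
  rw [Multiset.sum_cons] at hsum
  omega

/-- a group of order `35` or `105` has an element of order `35` -/
theorem exists35 {D : Type*} [Group D] [Finite D] (h : Nat.card D = 35 ∨ Nat.card D = 105) :
    ∃ d : D, orderOf d = 35 := by
  have key : ∀ {K : Type _} [Group K] [Finite K], Nat.card K = 35 → ∃ d : K, orderOf d = 35 := by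
    intro K _ _ hK
    have hcyc : IsCyclic K := by
      refine Cfsg.Agent.H94.PG.Sp.isCyclic_of_card (by rw [hK]; decide +kernel) (by rw [hK]; decide +kernel)
    obtain ⟨g, hg⟩ := hcyc.exists_generator
    exact ⟨g, by rw [orderOf_eq_card_of_forall_mem_zpowers hg, hK]⟩
  rcases h with h | h
  · exact key h
  · have hz : IsZGroup D := IsZGroup.of_squarefree (by rw [h]; decide +kernel)
    have hsol : Group.IsSolvable D := inferInstance
    obtain ⟨L, hL⟩ := Cfsg.Agent.Solvable.Hall.hall_exists (G := D) 35 3 (by rw [h]) (by norm_num)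
    obtain ⟨d, hd⟩ := key hL
    exact ⟨(d : D), by rw [Subgroup.orderOf_coe, hd]⟩

section

variable {G : Type*} [Group G] [Finite G] (L : MT 11 G)

include L

/-- subgroups of `C(t)` of odd order -/
theorem card_ne {t : G} (ht : t * t = 1) (ht1 : t ≠ 1) {D : Subgroup G} (hD : ¬ 2 ∣ Nat.card D)
    (hDt : D ≤ centralizer ({t} : Set G)) :
    Nat.card D ≤ 2079 ∧ Nat.card D ≠ 35 ∧ Nat.card D ≠ 105 := by
  obtain ⟨g, hg⟩ := L.one t ht ht1
  set D' := D.map (MulAut.conj g⁻¹).toMonoidHom with hD'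
  have hc : Nat.card D' = Nat.card D :=
    (Nat.card_congr (D.equivMapOfInjective _ (MulAut.conj g⁻¹).injective).toEquiv).symm
  have hle : D' ≤ centralizer ({L.t} : Set G) := by
    rintro x ⟨d, hd, rfl⟩
    have h1 := mem_centralizer_singleton_iff.1 (hDt hd)
    rw [mem_centralizer_singleton_iff]
    have h2 : L.t = g⁻¹ * t * g := by rw [← hg]; group
    change g⁻¹ * d * g⁻¹⁻¹ * L.t = L.t * (g⁻¹ * d * g⁻¹⁻¹)
    rw [h2]
    calc g⁻¹ * d * g⁻¹⁻¹ * (g⁻¹ * t * g) = g⁻¹ * (d * t) * g := by group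
      _ = g⁻¹ * (t * d) * g := by rw [h1]
      _ = g⁻¹ * t * g * (g⁻¹ * d * g⁻¹⁻¹) := by group
  have hodd : ¬ 2 ∣ Nat.card D' := by rwa [hc]
  have h1 := Cfsg.Agent.H474.TPRows.card_le_mt (by norm_num) L hodd hle
  rw [show Cfsg.Agent.H474.OddPerm.g 11 = 2079 from rfl, hc] at h1
  -- no element of order 35
  have h35 : ∀ d : D', orderOf d ≠ 35 := by
    intro d hd
    have h2 : orderOf (L.K.π (inclusion hle d)) ∣ 35 := by
      rw [← hd, ← orderOf_injective _ (inclusion_injective hle) d]
      exact orderOf_map_dvd L.K.π _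
    have h3 : (L.K.π (inclusion hle d)) ^ orderOf (L.K.π (inclusion hle d)) = 1 := pow_orderOf_eq_one _
    rw [← map_pow, ← map_pow] at h3
    have h4 : d ^ orderOf (L.K.π (inclusion hle d)) = 1 := by
      rcases (L.K.ker _).1 h3 with h | h
      · exact inclusion_injective hle (by rw [h, map_one])
      · exfalso
        apply hodd
        have h5 : orderOf (d ^ orderOf (L.K.π (inclusion hle d))) = 2 := by
          rw [← orderOf_injective _ (inclusion_injective hle), h]
          exact orderOf_eq_prime (by rw [pow_two]; exact L.K.z_mul_z) L.K.z_ne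
        rw [← h5]
        exact orderOf_dvd_natCard _
    have h5 := orderOf_dvd_of_pow_eq_one h4
    rw [hd] at h5
    exact no35 _ (Nat.dvd_antisymm h2 h5)
  refine ⟨h1, fun h => ?_, fun h => ?_⟩
  · obtain ⟨d, hd⟩ := exists35 (D := D') (Or.inl (hc.trans h))
    exact h35 d hd
  · obtain ⟨d, hd⟩ := exists35 (D := D') (Or.inr (hc.trans h))
    exact h35 d hd

end

theorem card_ly : Nat.card Spor.Ly = 51765179004000000 := Cfsg.Agent.Ly.Setup.card_ly

theorem arith (e a b : ℕ) (he : e ∣ 66) (he2 : Even e) (hb : b ∣ 39916800) (hb2 : Odd b)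
    (h1 : (e * (a * b)) % 67 = 22) (h2 : (a * 39916800) % 67 = 22) : b = 35 ∨ b = 105 ∨ 2079 < b := by
  have hb' : b ∣ 155925 := by
    have h3 : Nat.Coprime b (2 ^ 8) := Nat.Coprime.pow_right 8 (Nat.coprime_two_right.2 hb2)
    exact h3.dvd_of_dvd_mul_left (by norm_num; exact hb)
  obtain ⟨b1, b2, hb1, hb3, rfl⟩ : ∃ b1 b2, b1 ∣ 81 ∧ b2 ∣ 1925 ∧ b1 * b2 = b := by
    obtain ⟨b1, b2, h3, h4, h5⟩ := (Nat.dvd_mul (m := 81) (n := 1925)).1 (by norm_num; exact hb')
    exact ⟨b1, b2, h3, h4, h5⟩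
  have hb1m : b1 ∈ [1, 3, 9, 27, 81] :=
    mem_divisors_list' (by norm_num) hb1 (by decide +kernel)
  have hb2m : b2 ∈ [1, 5, 7, 11, 25, 35, 55, 77, 175, 275, 385, 1925] :=
    mem_divisors_list' (by norm_num) hb3 (by decide +kernel)
  have hem : e ∈ [1, 2, 3, 6, 11, 22, 33, 66] := mem_divisors_list' (by norm_num) he (by decide)
  have ha' : a % 67 = 62 := by
    rw [Nat.mul_mod] at h2
    norm_num at h2
    omega
  have key : ∀ e ∈ [1, 2, 3, 6, 11, 22, 33, 66], ∀ b1 ∈ [1, 3, 9, 27, 81],
      ∀ b2 ∈ [1, 5, 7, 11, 25, 35, 55, 77, 175, 275, 385, 1925],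
      e % 2 = 0 → (e * (62 * (b1 * b2))) % 67 = 22 → b1 * b2 = 35 ∨ b1 * b2 = 105 ∨ 2079 < b1 * b2 := by
    decide +kernel
  refine key e hem b1 hb1m b2 hb2m (Nat.even_iff.1 he2) ?_
  rw [← h1, Nat.mul_mod, Nat.mul_mod 62, Nat.mul_mod e, Nat.mul_mod a, ha']
where
  mem_divisors_list' {n e : ℕ} (hn : 0 < n) (he : e ∣ n) {E : List ℕ}
      (h : ∀ d ∈ List.range (n + 1), n % d = 0 → d ∈ E) : e ∈ E :=
    h e (List.mem_range.2 (Nat.lt_succ_of_le (Nat.le_of_dvd hn he))) (Nat.mod_eq_zero_of_dvd he)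

instance fact67 : Fact (Nat.Prime 67) := ⟨by norm_num⟩

theorem hasDZ_67 : HasDZ 67 Spor.Ly := by
  have hfin : Finite Spor.Ly := Cfsg.Agent.Ly.Setup.finite_ly
  obtain ⟨L⟩ := Cfsg.Agent.TypeM.FactsLy.exists_mt_ly
  have hct : Nat.card (centralizer ({L.t} : Set Spor.Ly)) = 39916800 := by
    rw [Cfsg.Agent.H474.TPRows.card_cover (by norm_num) L.K]; rfl
  have hm : ∀ u : Spor.Ly, orderOf u = 2 → Nat.card (centralizer ({u} : Set Spor.Ly)) = 39916800 := by
    intro u hu
    obtain ⟨g, hg⟩ := L.one u (by rw [← pow_two, ← hu, pow_orderOf_eq_one]) (by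
      rintro rfl
      rw [orderOf_one] at hu
      norm_num at hu)
    rw [← hct]
    exact Cfsg.Agent.Blocks.SylowIn.card_centralizer_of_isConj (isConj_iff.2 ⟨g, hg⟩)
  refine Cfsg.Agent.H713.hasDZ_of_card (by norm_num)
    (by rw [card_ly]; exact Cfsg.Agent.H713.factorization_eq_one (by norm_num) (by norm_num))
    (by rw [card_ly]; norm_num) (m := 39916800) hm (by norm_num) ?_
  intro e a b x t hx ht hb he he2 hbm hbo hao hd h1 h2
  rw [card_ly] at h1 h2
  norm_num at he h1 h2
  have h3 := arith e a b he he2 hbm hbo (by norm_num; exact h1) (by norm_num; exact h2)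
  obtain ⟨h4, h5, h6⟩ := card_ne L (t := t) (by rw [← pow_two, ← ht, pow_orderOf_eq_one]) (by
    rintro rfl
    rw [orderOf_one] at ht
    norm_num at ht) (D := centralizer ({x} : Set Spor.Ly) ⊓ centralizer ({t} : Set Spor.Ly))
    (by rw [hb]; exact fun h => (Nat.not_even_iff_odd.2 hbo) (even_iff_two_dvd.2 h)) inf_le_right
  rw [hb] at h4 h5 h6
  omega

end Cfsg.Agent.H859.Five.LyDZ
end
end
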